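import Mathlib
import Cfsg.Agent.Lib.Block.PrimeDegreeModule
import Cfsg.Agent.Lib.Char.SelfCentPrime
import Cfsg.Agent.Lib.Invol.Basic

/-!
Permutation groups of prime degree: solvable ones, the self-centralizing element, inverted cycles.
-/

set_option autoImplicit false

namespace Cfsg.Agent.Block.PrimeTwoP

open MulAction Cfsg.Agent.Char

variable {α : Type*} [Fintype α] [DecidableEq α] {p : ℕ} [Fact p.Prime]

/-- An element generating a Sylow subgroup generates its centralizer. -/
theorem exists_hyp (hα : Fintype.card α = p) (G : Subgroup (Equiv.Perm α)) [IsPretransitive G α]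
    (P : Sylow p G) : ∃ x : G, SCP.Hyp p x ∧ SCP.P x = (P : Subgroup G) := by
  obtain ⟨a⟩ : Nonempty α := Fintype.card_pos_iff.1 (hα ▸ (Fact.out : p.Prime).pos)
  obtain ⟨σ, hσ, hpow, hord, -⟩ := Block.exists_zmod_equiv hα G P a
  have hz : Subgroup.zpowers σ = (P : Subgroup G) := le_antisymm (Subgroup.zpowers_le.2 hσ)
    fun x hx => by obtain ⟨i, rfl⟩ := hpow x hx; exact Subgroup.npow_mem_zpowers σ i
  refine ⟨σ, ⟨hord, ?_⟩, hz⟩
  rw [hz, ← Block.primeDeg_centralizer hα G P, ← hz, Subgroup.zpowers_eq_closure,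
    Subgroup.centralizer_closure]

/-- A solvable transitive group of prime degree has a normal Sylow subgroup. -/
theorem normal_of_solvable (hα : Fintype.card α = p) (G : Subgroup (Equiv.Perm α))
    [IsPretransitive G α] (P : Sylow p G) [Group.IsSolvable G] : (P : Subgroup G).Normal := by
  classical
  have hp : p.Prime := Fact.out
  have hPc := Block.primeDeg_card_sylow hα G P
  have hd : ∃ n, derivedSeries G n = ⊥ := by
    obtain ⟨n, hn⟩ := Group.IsSolvable.solvable (G := G)
    exact ⟨n, hn⟩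
  set n := Nat.find hd with hndef
  have hn := Nat.find_spec hd
  have hn0 : n ≠ 0 := fun h0 => by
    rw [← hndef, h0, derivedSeries_zero] at hn
    have h1 : Nat.card (P : Subgroup G) = 1 := by
      rw [show (P : Subgroup G) = ⊥ from le_bot_iff.1 (hn ▸ le_top), Subgroup.card_bot]
    rw [hPc] at h1
    exact hp.one_lt.ne' h1
  set A := derivedSeries G (n - 1) with hA
  have hA1 : A ≠ ⊥ := Nat.find_min hd (show n - 1 < Nat.find hd by omega)
  haveI hAn : A.Normal := derivedSeries_normal G (n - 1)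
  have hAab : ∀ x ∈ A, ∀ y ∈ A, x * y = y * x := by
    intro x hx y hy
    have h1 : derivedSeries G (n - 1 + 1) = ⊥ := by
      rw [show n - 1 + 1 = n by omega]; exact hn
    rw [derivedSeries_succ, Subgroup.commutator_eq_bot_iff_le_centralizer] at h1
    exact (Subgroup.mem_centralizer_iff.1 (h1 hx) y hy).symm
  obtain ⟨⟨g, hgA⟩, hg⟩ : ∃ g : A, g ≠ 1 := by
    haveI := (Subgroup.nontrivial_iff_ne_bot A).2 hA1
    exact exists_ne 1
  obtain ⟨a, ha⟩ : ∃ a : α, g • a ≠ a := by
    by_contra hc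
    push Not at hc
    exact hg (Subtype.ext (Subtype.ext (Equiv.ext hc)))
  haveI : IsPreprimitive G α := IsPreprimitive.of_prime_card (by rw [Nat.card_eq_fintype_card, hα]; exact hp)
  haveI : IsPretransitive A α := IsQuasiPreprimitive.isPretransitive_of_normal fun h =>
    ha ((Set.ext_iff.1 h a).2 trivial ⟨g, hgA⟩)
  have hpA : p ∣ Nat.card A := by
    have h1 := index_stabilizer_of_transitive A a
    rw [Nat.card_eq_fintype_card (α := α), hα] at h1
    exact h1 ▸ Subgroup.index_dvd_card _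
  obtain ⟨⟨y, hyA⟩, hy⟩ := exists_prime_orderOf_dvd_card' p hpA
  obtain ⟨x, hx, hxP⟩ := exists_hyp hα G P
  have hyo : orderOf y = p := by rw [← hy]; exact (Subgroup.orderOf_mk _ _).symm
  obtain ⟨c, hc⟩ := SCP.exists_conj_mem hx hyo
  have hc1 : c * y * c⁻¹ ≠ 1 := fun e => by
    rw [conj_eq_one_iff] at e
    rw [e, orderOf_one] at hyo
    exact hp.one_lt.ne hyo
  have hPA : (P : Subgroup G) ≤ A := by
    rw [← hxP, ← SCP.zpowers_eq_of_mem hx hc hc1, Subgroup.zpowers_le]
    exact hAn.conj_mem y hyA c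
  have hAP : A ≤ (P : Subgroup G) := by
    rw [← Block.primeDeg_centralizer hα G P]
    intro x hx
    rw [Subgroup.mem_centralizer_iff]
    exact fun y hy => hAab y (hPA hy) x hx
  rw [le_antisymm hPA hAP]
  exact hAn

/-- An element inverting an element of order `p` fixes at most one point. -/
theorem fixed_le_one (hα : Fintype.card α = p) (hp2 : p ≠ 2) {G : Subgroup (Equiv.Perm α)} {v z : G}
    (hv : orderOf v = p) (hinv : z * v * z⁻¹ = v⁻¹) : Nat.card (fixedBy α z) ≤ 1 := by
  classical
  have hp : p.Prime := Fact.out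
  have hv' : orderOf (v : Equiv.Perm α) = p := by rw [Subgroup.orderOf_coe, hv]
  have hcyc : (v : Equiv.Perm α).IsCycle := Equiv.Perm.isCycle_of_prime_order'
    (by rw [hv']; exact hp) (by rw [hv', hα]; have := hp.pos; omega)
  have hsupp : (v : Equiv.Perm α).support = Finset.univ := by
    apply Finset.eq_univ_of_card
    rw [← hcyc.orderOf, hv', hα]
  rw [Finite.card_le_one_iff_subsingleton]
  refine ⟨fun a b => Subtype.ext ?_⟩
  have hm : ∀ c : α, (v : Equiv.Perm α) c ≠ c := fun c =>
    Equiv.Perm.mem_support.1 (hsupp ▸ Finset.mem_univ c)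
  obtain ⟨i, hi⟩ := hcyc.exists_zpow_eq (hm a) (hm b)
  have hi' : (v ^ i) • (a : α) = b := by simpa [Subgroup.smul_def] using hi
  have ha : z • (a : α) = a := a.2
  have hb : z • (b : α) = b := b.2
  have h1 : z * v ^ i = (v ^ i)⁻¹ * z := by
    have h := congrArg (fun w => w ^ i) hinv
    simp only [conj_zpow, inv_zpow] at h
    rw [← h, inv_mul_cancel_right]
  have h2 : (v ^ (2 * i)) • (a : α) = a := by
    have h3 := congrArg (fun w => w • (a : α)) h1
    simp only [mul_smul, ha, hi', hb] at h3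
    rw [two_mul, zpow_add, mul_smul, hi', ← eq_inv_smul_iff]
    exact h3
  have h4 : (v : Equiv.Perm α) ^ (2 * i) = 1 := by
    ext c
    obtain ⟨j, rfl⟩ := hcyc.exists_zpow_eq (hm a) (hm c)
    rw [← Equiv.Perm.mul_apply, ← zpow_add, add_comm, zpow_add, Equiv.Perm.mul_apply,
      Equiv.Perm.one_apply]
    congr 1
  rw [← orderOf_dvd_iff_zpow_eq_one, hv'] at h4
  have h5 : (p : ℤ) ∣ i := ((Int.Prime.dvd_mul' hp h4)).resolve_left fun h => hp2
    ((Nat.prime_dvd_prime_iff_eq hp Nat.prime_two).1 (Int.natCast_dvd_natCast.1 h))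
  rw [show v ^ i = 1 from orderOf_dvd_iff_zpow_eq_one.1 (by rw [hv]; exact h5), one_smul] at hi'
  exact hi'

end Cfsg.Agent.Block.PrimeTwoP
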