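import Mathlib
import Cfsg.Agent.Lib.Block.PermChar

/-!
Moments of a permutation character: orbits on tuples of distinct points.
-/

set_option autoImplicit false

namespace Cfsg.Agent.Block.PrimeTwoP

open MulAction

universe u v

variable {G : Type u} [Group G] {Ω : Type v} [MulAction G Ω]

/-- The embeddings fixed by `g` are the embeddings into its fixed points. -/
def fixedEmbEquiv (n : ℕ) (g : G) : fixedBy (Fin n ↪ Ω) g ≃ (Fin n ↪ fixedBy Ω g) where
  toFun e := ⟨fun i => ⟨e.1 i, congrArg (fun s : Fin n ↪ Ω => s i) e.2⟩,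
    fun _ _ h => e.1.injective (congrArg Subtype.val h)⟩
  invFun f := ⟨f.trans (Function.Embedding.subtype _), Function.Embedding.ext fun i => (f i).2⟩
  left_inv _ := rfl
  right_inv _ := rfl

theorem sum_descFactorial [Fintype G] [Fintype Ω] (n : ℕ) :
    ∑ g : G, (Nat.card (fixedBy Ω g)).descFactorial n =
      Nat.card (orbitRel.Quotient G (Fin n ↪ Ω)) * Nat.card G := by
  classical
  haveI : Fintype (Quotient (orbitRel G (Fin n ↪ Ω))) := Fintype.ofFinite _
  have h := sum_card_fixedBy_eq_card_orbits_mul_card_group G (Fin n ↪ Ω)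
  rw [Nat.card_eq_fintype_card, Nat.card_eq_fintype_card]
  refine (Finset.sum_congr rfl fun g _ => ?_).trans h
  rw [Fintype.card_congr (fixedEmbEquiv n g), Fintype.card_embedding_eq, Fintype.card_fin,
    Nat.card_eq_fintype_card]

theorem sum_descFactorial_one [Fintype G] [Fintype Ω] {n : ℕ}
    (h : IsMultiplyPretransitive G Ω n) (hn : n ≤ Nat.card Ω) :
    ∑ g : G, (Nat.card (fixedBy Ω g)).descFactorial n = Nat.card G := by
  classical
  rw [sum_descFactorial]
  haveI := h
  haveI : Subsingleton (orbitRel.Quotient G (Fin n ↪ Ω)) :=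
    (pretransitive_iff_subsingleton_quotient G (Fin n ↪ Ω)).1 inferInstance
  haveI : Nonempty (Fin n ↪ Ω) := Function.Embedding.nonempty_of_card_le (by
    rw [Fintype.card_fin, ← Nat.card_eq_fintype_card]; exact hn)
  haveI : Nonempty (orbitRel.Quotient G (Fin n ↪ Ω)) := Nonempty.map Quotient.mk'' inferInstance
  rw [Nat.card_unique, one_mul]

theorem cast_descFactorial_succ (m k : ℕ) :
    ((m.descFactorial (k + 1) : ℕ) : ℂ) = ((m : ℂ) - k) * (m.descFactorial k : ℕ) := by
  rw [Nat.descFactorial_succ, Nat.cast_mul]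
  rcases le_or_gt k m with h | h
  · rw [Nat.cast_sub h]
  · rw [Nat.descFactorial_eq_zero_iff_lt.2 h, Nat.cast_zero, mul_zero, mul_zero]

/-- Powers of `m - 1` in falling factorials. -/
theorem pow_expand (m : ℕ) :
    ((m : ℂ) - 1) = (m.descFactorial 1 : ℕ) - 1 ∧
    ((m : ℂ) - 1) ^ 2 = (m.descFactorial 2 : ℕ) - (m.descFactorial 1 : ℕ) + 1 ∧
    ((m : ℂ) - 1) ^ 3 = (m.descFactorial 3 : ℕ) + (m.descFactorial 1 : ℕ) - 1 ∧
    ((m : ℂ) - 1) ^ 4 = (m.descFactorial 4 : ℕ) + 2 * (m.descFactorial 3 : ℕ) +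
      (m.descFactorial 2 : ℕ) - (m.descFactorial 1 : ℕ) + 1 := by
  simp only [cast_descFactorial_succ, Nat.descFactorial_zero, Nat.cast_one, Nat.cast_zero]
  refine ⟨?_, ?_, ?_, ?_⟩ <;> push_cast <;> ring

end Cfsg.Agent.Block.PrimeTwoP
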