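import Mathlib
import Cfsg.Agent.Lib.Block.PrimeTwoP.Basic
import Cfsg.Agent.Lib.Block.PrimeTwoP.Moments
import Cfsg.Agent.Lib.Block.FewSylow.Basic

/-!
A triply transitive group of prime degree `p` with Sylow normalizer of order `2 p`: the square of
the character of degree `p - 1`, and the class equation at an involution.
-/

set_option autoImplicit false

namespace Cfsg.Agent.Block.PrimeTwoP

open scoped ComplexConjugate
open Cfsg Cfsg.Agent.Block Cfsg.Agent.Char MulAction

universe u

variable {α : Type u} [Fintype α] [DecidableEq α] {p : ℕ} [Fact p.Prime]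
  {G : Subgroup (Equiv.Perm α)}

theorem no_fixed_of_order (hα : Fintype.card α = p) {g : G} (hg : orderOf g = p) :
    Nat.card (fixedBy α g) = 0 := by
  have hp : p.Prime := Fact.out
  have hg' : orderOf (g : Equiv.Perm α) = p := by rw [Subgroup.orderOf_coe, hg]
  have hcyc : (g : Equiv.Perm α).IsCycle := Equiv.Perm.isCycle_of_prime_order'
    (by rw [hg']; exact hp) (by rw [hg', hα]; have := hp.pos; omega)
  have hsupp : (g : Equiv.Perm α).support = Finset.univ := by
    apply Finset.eq_univ_of_card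
    rw [← hcyc.orderOf, hg', hα]
  rw [Nat.card_eq_zero]
  exact Or.inl ⟨fun a => Equiv.Perm.mem_support.1 (hsupp ▸ Finset.mem_univ (a : α)) a.2⟩

/-- The permutation character less one. -/
noncomputable def heart (g : G) : ℂ := (Nat.card (fixedBy α g) : ℂ) - 1

theorem heart_conj (g : G) : conj (heart g) = heart g := by
  rw [heart, map_sub, map_one, Complex.conj_natCast]

theorem heart_one (hα : Fintype.card α = p) : heart (1 : G) = (p : ℂ) - 1 := by
  rw [heart, fixedBy_one_eq_univ, Nat.card_univ, Nat.card_eq_fintype_card, hα]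

theorem heart_order (hα : Fintype.card α = p) {g : G} (hg : orderOf g = p) : heart g = -1 := by
  rw [heart, no_fixed_of_order hα hg, Nat.cast_zero, zero_sub]

variable [Fintype G]

theorem moments (hp5 : 5 ≤ p) (hα : Fintype.card α = p) (h3 : IsMultiplyPretransitive G α 3) :
    ∑ g : G, heart g = 0 ∧ ∑ g : G, heart g ^ 2 = Nat.card G ∧
    ∑ g : G, heart g ^ 3 = Nat.card G ∧
    ∑ g : G, heart g ^ 4 =
      ((Nat.card (orbitRel.Quotient G (Fin 4 ↪ α)) : ℂ) + 3) * Nat.card G := by
  haveI := h3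
  have hc : Nat.card α = p := by rw [Nat.card_eq_fintype_card, hα]
  have hle : ∀ n ≤ 3, IsMultiplyPretransitive G α n := fun n hn =>
    isMultiplyPretransitive_of_le (n := 3) hn (by rw [hc]; omega)
  have hD : ∀ n ≤ 3, ∑ g : G, (((Nat.card (fixedBy α g)).descFactorial n : ℕ) : ℂ) = Nat.card G :=
    fun n hn => by
      rw [← Nat.cast_sum, sum_descFactorial_one (hle n hn) (by rw [hc]; omega)]
  have h1 := hD 1 (by norm_num)
  have h2 := hD 2 (by norm_num)
  have h3' := hD 3 le_rfl
  have h4 : ∑ g : G, (((Nat.card (fixedBy α g)).descFactorial 4 : ℕ) : ℂ) =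
      (Nat.card (orbitRel.Quotient G (Fin 4 ↪ α)) : ℂ) * Nat.card G := by
    rw [← Nat.cast_sum, sum_descFactorial, Nat.cast_mul]
    rfl
  have hN : ∑ _g : G, (1 : ℂ) = Nat.card G := by
    rw [Finset.sum_const, nsmul_one, Finset.card_univ, Nat.card_eq_fintype_card]
  refine ⟨?_, ?_, ?_, ?_⟩ <;> unfold heart
  · rw [Finset.sum_congr rfl fun g _ => (pow_expand (Nat.card (fixedBy α g))).1]
    rw [Finset.sum_sub_distrib, h1, hN, sub_self]
  · rw [Finset.sum_congr rfl fun g _ => (pow_expand (Nat.card (fixedBy α g))).2.1]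
    rw [Finset.sum_add_distrib, Finset.sum_sub_distrib, h1, h2, hN]; ring
  · rw [Finset.sum_congr rfl fun g _ => (pow_expand (Nat.card (fixedBy α g))).2.2.1]
    rw [Finset.sum_sub_distrib, Finset.sum_add_distrib, h1, h3', hN]; ring
  · rw [Finset.sum_congr rfl fun g _ => (pow_expand (Nat.card (fixedBy α g))).2.2.2]
    rw [Finset.sum_add_distrib, Finset.sum_sub_distrib, Finset.sum_add_distrib,
      Finset.sum_add_distrib, ← Finset.mul_sum, h1, h2, h3', h4, hN]; ring

theorem heart_irr (hp5 : 5 ≤ p) (hα : Fintype.card α = p) (h3 : IsMultiplyPretransitive G α 3) :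
    IsIrrCharacter G (heart (G := G)) := by
  have hG : (Nat.card G : ℂ) ≠ 0 := Nat.cast_ne_zero.2 Nat.card_pos.ne'
  have h : IsGeneralizedCharacter G (heart (G := G)) :=
    ⟨PermChar.piFun G α, (trivialIrr G : G → ℂ), PermChar.isCharacter_piFun,
      IsIrr.isCharacter (trivialIrr G).2, rfl⟩
  have hn : classInner (heart (G := G)) heart = 1 := by
    rw [classInner, Finset.sum_congr rfl fun g _ => (show heart g * conj (heart g) = heart g ^ 2 by
      rw [heart_conj, sq]), (moments hp5 hα h3).2.1, inv_mul_cancel₀ hG]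
  refine (IsGenChar.norm_one h hn).resolve_right fun h' => ?_
  obtain ⟨d, hd, hd'⟩ := IsIrr.one_eq_pos h'
  rw [Pi.neg_apply, heart_one hα] at hd'
  have hd'' : ((d + p : ℕ) : ℂ) = ((1 : ℕ) : ℂ) := by push_cast; linear_combination -hd'
  have := Nat.cast_injective hd''
  omega

theorem main_chars (hp5 : 5 ≤ p) (hα : Fintype.card α = p) (h3 : IsMultiplyPretransitive G α 3)
    {x : G} (hx : SCP.Hyp p x) (he : SCP.e x = 2) :
    (∀ z : G, orderOf z = 2 → Nat.card (fixedBy α z) < 3) ∧
      (p - 1) / 2 ≤ Nat.card (orbitRel.Quotient G (Fin 4 ↪ α)) := by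
  classical
  have hp : p.Prime := Fact.out
  obtain ⟨t, ht⟩ : ∃ t, p = 2 * t + 1 := hp.odd_of_ne_two (by omega)
  obtain ⟨X, Y, c, ε, H⟩ := SCP.exists_chars hx
  rw [he] at H
  have hYc : Y.card = t := by have := H.card_Y; omega
  obtain ⟨hm1, hm2, hm3, hm4⟩ := moments hp5 hα h3
  set τ := trivialIrr G with hτ
  have hτv : ∀ g : G, (τ : G → ℂ) g = 1 := fun g => rfl
  let χ : IrrCharacter G := ⟨heart, heart_irr hp5 hα h3⟩
  have hχv : ∀ g : G, (χ : G → ℂ) g = heart g := fun g => rfl
  have hXY : ∀ θ : IrrCharacter G, (θ : G → ℂ) x ≠ 0 → θ ∈ X ∪ Y := fun θ hθ => by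
    by_contra hc
    exact hθ (H.vanish θ hc x hx.ord)
  have hd1 : charDegree (τ : G → ℂ) = 1 := Nat.cast_injective (R := ℂ)
    ((charDeg_spec' τ).symm.trans ((hτv 1).trans Nat.cast_one.symm))
  have hdχ : charDegree (χ : G → ℂ) + 1 = p := by
    apply Nat.cast_injective (R := ℂ)
    rw [Nat.cast_add, Nat.cast_one, ← charDeg_spec', hχv, heart_one hα, sub_add_cancel]
  have hnd : ∀ a : ℤ, a ≠ 0 → |a| < p → ¬ (p : ℤ) ∣ a := fun a ha hlt hdvd => by
    have := Int.le_of_dvd (abs_pos.2 ha) ((dvd_abs _ _).2 hdvd)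
    omega
  have hp' : (5 : ℤ) ≤ p := by exact_mod_cast hp5
  have hτX : τ ∈ X := by
    refine (Finset.mem_union.1 H.trivial_mem).resolve_right fun h => ?_
    have h1 := (H.deg_Y τ h).dvd
    rw [hd1] at h1
    rcases H.ε_sign with e1 | e1 <;> rw [e1] at h1 <;>
      exact hnd _ (by norm_num) (by norm_num <;> omega) h1
  have hχX : χ ∈ X := by
    refine (Finset.mem_union.1 (hXY χ (by
      rw [hχv, heart_order hα hx.ord]; norm_num))).resolve_right fun h => ?_
    have h1 := (H.deg_Y χ h).dvd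
    have h2 : (charDegree (χ : G → ℂ) : ℤ) = p - 1 := by omega
    rw [h2] at h1
    rcases H.ε_sign with e1 | e1 <;> rw [e1] at h1
    · obtain ⟨k, hk⟩ := h1
      push_cast at hk
      exact hnd 3 (by norm_num) (by norm_num; omega) ⟨k + 1, by linear_combination hk⟩
    · obtain ⟨k, hk⟩ := h1
      push_cast at hk
      exact hnd 1 (by norm_num) (by norm_num; omega) ⟨-(k + 1), by linear_combination -hk⟩
  have hne : τ ≠ χ := fun e1 => by
    rw [← e1, hd1] at hdχ
    omega
  have hX : X = {τ, χ} := (Finset.eq_of_subset_of_card_le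
    (Finset.insert_subset hτX (Finset.singleton_subset_iff.2 hχX))
    (by rw [H.card_X, Finset.card_pair hne])).symm
  have hcτ : (c τ : ℂ) = -1 := by
    have h1 := H.value τ hτX x hx.ord
    rw [hτv] at h1
    linear_combination h1
  have hcχ : (c χ : ℂ) = 1 := by
    have h1 := H.value χ hχX x hx.ord
    rw [hχv, heart_order hα hx.ord] at h1
    linear_combination h1
  have h1reg : ¬ p ∣ orderOf (1 : G) := by rw [orderOf_one]; exact hp.not_dvd_one
  have hreg : ∀ θ ∈ Y, ∀ g : G, ¬ p ∣ orderOf g → (ε : ℂ) * (θ : G → ℂ) g = 1 - heart g := by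
    intro θ hθ g hg
    have h1 := H.regular θ hθ g hg
    rw [hX, Finset.sum_pair hne, hcτ, hcχ, hτv, hχv] at h1
    linear_combination h1
  obtain ⟨θ₀, hθ₀⟩ := Finset.card_pos.1 (show 0 < Y.card by omega)
  have hε : (ε : ℂ) = -1 := by
    rcases H.ε_sign with e1 | e1
    · exfalso
      have h1 := hreg θ₀ hθ₀ 1 h1reg
      rw [e1, heart_one hα, charDeg_spec', Int.cast_one, one_mul] at h1
      have h2 : ((charDegree (θ₀ : G → ℂ) + p : ℕ) : ℂ) = ((2 : ℕ) : ℂ) := by
        push_cast; linear_combination h1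
      have := Nat.cast_injective h2
      omega
    · rw [e1]; norm_num
  have hθv : ∀ θ ∈ Y, ∀ g : G, ¬ p ∣ orderOf g → (θ : G → ℂ) g = heart g - 1 := by
    intro θ hθ g hg
    have h1 := hreg θ hθ g hg
    rw [hε] at h1
    linear_combination -h1
  have hdY : ∀ θ ∈ Y, charDegree (θ : G → ℂ) + 2 = p := fun θ hθ => by
    apply Nat.cast_injective (R := ℂ)
    rw [Nat.cast_add, ← charDeg_spec', hθv θ hθ 1 h1reg, heart_one hα]
    push_cast; ring
  -- a sum over the characters not vanishing at `x`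
  have hsplit : ∀ F : IrrCharacter G → ℂ,
      ∑ ψ ∈ X ∪ Y, F ψ = F τ + F χ + ∑ ψ ∈ Y, F ψ := fun F => by
    rw [Finset.sum_union H.disj, hX, Finset.sum_pair hne]
  have hsupp : ∀ F : IrrCharacter G → ℂ, (∀ ψ : IrrCharacter G, (ψ : G → ℂ) x = 0 → F ψ = 0) →
      ∑ ψ, F ψ = F τ + F χ + ∑ ψ ∈ Y, F ψ := fun F hF => by
    rw [← hsplit]
    exact (Finset.sum_subset (Finset.subset_univ _) fun ψ _ hψ => hF ψ (H.vanish ψ hψ x hx.ord)).symm
  refine ⟨fun z hz => ?_, ?_⟩
  · by_contra hb
    push Not at hb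
    have hzp : ¬ p ∣ orderOf z := fun h => by
      rw [hz] at h
      have := Nat.le_of_dvd two_pos h
      omega
    have hzero : Nat.card {k : G // IsConj x (z * (k * z * k⁻¹))} = 0 := by
      rw [Nat.card_eq_zero]
      refine Or.inl ⟨fun k => ?_⟩
      obtain ⟨w, hw⟩ := isConj_iff.1 k.2
      have hz2 := Invol.mul_self_of_orderOf_two hz
      have hvo : orderOf (z * (k.1 * z * k.1⁻¹)) = p := by
        rw [← hw, ← MulAut.conj_apply, MulEquiv.orderOf_eq, hx.ord]
      have hinv : z * (z * (k.1 * z * k.1⁻¹)) * z⁻¹ = (z * (k.1 * z * k.1⁻¹))⁻¹ := by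
        calc z * (z * (k.1 * z * k.1⁻¹)) * z⁻¹ = (z * z) * k.1 * z * k.1⁻¹ * z⁻¹ := by group
          _ = k.1 * z⁻¹ * k.1⁻¹ * z⁻¹ := by
            rw [hz2, one_mul, Invol.inv_of_orderOf_two hz]
          _ = _ := by group
      have := fixed_le_one hα (by omega) hvo hinv
      omega
    have hF := Few.class_u hx hx.ord z
    rw [hzero, Nat.cast_zero, mul_zero] at hF
    have hF' := (mul_eq_zero.1 hF.symm).resolve_left (Nat.cast_ne_zero.2 Nat.card_pos.ne')
    have hreg0 := regular_expansion (G := G) x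
    rw [if_neg (SCP.ne_one hx), hsupp _ (fun ψ hψ => by rw [hψ, mul_zero])] at hreg0
    rw [hsupp _ (fun ψ hψ => by rw [hψ, map_zero, zero_mul, zero_mul, zero_div]), hτv, hχv, hχv,
      hχv, hτv, hτv, heart_order hα hx.ord, heart_one hα,
      Finset.sum_congr rfl (g := fun ψ : IrrCharacter G =>
        conj ((ψ : G → ℂ) x) * ((heart z - 1) ^ 2 / ((p : ℂ) - 2)))
        (fun ψ hψ => by
          rw [hθv ψ hψ z hzp, hθv ψ hψ 1 h1reg, heart_one hα]; ring),
      ← Finset.sum_mul, ← map_sum, map_one, map_neg, map_one] at hF'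
    rw [hτv, hτv, hχv, hχv, heart_order hα hx.ord, heart_one hα,
      Finset.sum_congr rfl (g := fun ψ : IrrCharacter G => ((p : ℂ) - 2) * (ψ : G → ℂ) x)
        (fun ψ hψ => by rw [hθv ψ hψ 1 h1reg, heart_one hα]; ring), ← Finset.mul_sum] at hreg0
    have hp2 : (p : ℂ) - 2 ≠ 0 := sub_ne_zero.2 (by exact_mod_cast (show p ≠ 2 by omega))
    have hp1 : (p : ℂ) - 1 ≠ 0 := sub_ne_zero.2 (by exact_mod_cast (show p ≠ 1 by omega))
    have hY1 : ∑ ψ ∈ Y, (ψ : G → ℂ) x = 1 := by
      refine mul_left_cancel₀ hp2 ?_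
      linear_combination hreg0
    rw [hY1, map_one] at hF'
    field_simp at hF'
    have h1 : (heart z - ((p : ℂ) - 1)) ^ 2 = 0 := by linear_combination hF'
    rw [sq_eq_zero_iff, sub_eq_zero, heart] at h1
    have h2 : Nat.card (fixedBy α z) = p := by
      apply Nat.cast_injective (R := ℂ)
      linear_combination h1
    have h4 : z = 1 := by
      apply Subtype.ext
      refine Equiv.ext fun a => ?_
      have h5 : fixedBy α z = Set.univ := by
        refine Set.eq_of_subset_of_ncard_le (Set.subset_univ _) ?_ Set.finite_univ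
        rw [Set.ncard_univ, ← Nat.card_coe_set_eq, h2, Nat.card_eq_fintype_card, hα]
      exact (Set.ext_iff.1 h5 a).2 trivial
    rw [h4, orderOf_one] at hz
    omega
  · set f2 : G → ℂ := fun g => heart g ^ 2 with hf2
    have hG : (Nat.card G : ℂ) ≠ 0 := Nat.cast_ne_zero.2 Nat.card_pos.ne'
    have hchar : IsCharacter G f2 := by
      rw [show f2 = (χ : G → ℂ) * (χ : G → ℂ) from funext fun g => sq _]
      exact IsChar.mul (IsIrr.isCharacter χ.2) (IsIrr.isCharacter χ.2)
    obtain ⟨m, hm, hdec⟩ := IsChar.exists_decomp_inner hchar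
    have hmτ : m τ = 1 := by
      apply Nat.cast_injective (R := ℂ)
      rw [← hm, classInner, Finset.sum_congr rfl fun g _ => (show f2 g * conj ((τ : G → ℂ) g) =
        heart g ^ 2 by rw [hτv, map_one, mul_one]), hm2, inv_mul_cancel₀ hG, Nat.cast_one]
    have hmχ : m χ = 1 := by
      apply Nat.cast_injective (R := ℂ)
      rw [← hm, classInner, Finset.sum_congr rfl fun g _ => (show f2 g * conj ((χ : G → ℂ) g) =
        heart g ^ 3 by rw [hχv, heart_conj, hf2]; ring), hm3, inv_mul_cancel₀ hG, Nat.cast_one]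
    have hmY : ∀ θ ∈ Y, m θ = 1 := by
      intro θ hθ
      apply Nat.cast_injective (R := ℂ)
      have hθτ : θ ≠ τ := fun e1 => Finset.disjoint_left.1 H.disj hτX (e1 ▸ hθ)
      have h0 : ∑ g : G, conj ((θ : G → ℂ) g) = 0 := by
        have h := classInner_irr_eq_ite τ.2 θ.2
        rw [classInner, if_neg (fun e1 => hθτ (Subtype.ext e1.symm)), mul_eq_zero] at h
        have h' := h.resolve_left (inv_ne_zero hG)
        rwa [Finset.sum_congr rfl fun g _ => (show (τ : G → ℂ) g * conj ((θ : G → ℂ) g) =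
          conj ((θ : G → ℂ) g) by rw [hτv, one_mul])] at h'
      have hpt : ∀ g : G, f2 g * conj ((θ : G → ℂ) g) =
          heart g ^ 3 - heart g ^ 2 + conj ((θ : G → ℂ) g) - heart g + 1 := by
        intro g
        by_cases hg : p ∣ orderOf g
        · rw [hf2]
          simp only [heart_order hα (Few.ord_eq_p hx hg)]
          ring
        · rw [hθv θ hθ g hg, map_sub, map_one, heart_conj, hf2]; ring
      rw [← hm, classInner, Finset.sum_congr rfl fun g _ => hpt g, Finset.sum_add_distrib,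
        Finset.sum_sub_distrib, Finset.sum_add_distrib, Finset.sum_sub_distrib, hm3, hm2, h0, hm1,
        Finset.sum_const, nsmul_one, Finset.card_univ, ← Nat.card_eq_fintype_card, sub_self,
        zero_add, sub_zero, zero_add, inv_mul_cancel₀ hG, Nat.cast_one]
    have hm1' : ∀ ψ ∈ X ∪ Y, m ψ = 1 := fun ψ hψ => by
      rcases Finset.mem_union.1 hψ with h | h
      · rw [hX, Finset.mem_insert, Finset.mem_singleton] at h
        rcases h with rfl | rfl <;> assumption
      · exact hmY ψ h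
    obtain ⟨ξ, hξ, hξ0⟩ : ∃ ξ, ξ ∉ X ∪ Y ∧ m ξ ≠ 0 := by
      by_contra hc
      push Not at hc
      have h := congrFun hdec 1
      rw [sum_irr_apply, ← Finset.sum_subset (Finset.subset_univ (X ∪ Y)) (fun ψ _ hψ => by
        rw [hc ψ hψ, Nat.cast_zero, zero_mul]), hsplit, hmτ, hmχ, hf2, hτv, hχv,
        Finset.sum_congr rfl (g := fun _ => (p : ℂ) - 2) (fun ψ hψ => by
          rw [hmY ψ hψ, hθv ψ hψ 1 h1reg, heart_one hα]; push_cast; ring),
        Finset.sum_const, hYc, nsmul_eq_mul] at h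
      simp only [heart_one hα, Nat.cast_one, one_mul] at h
      rw [show (p : ℂ) = 2 * t + 1 by exact_mod_cast ht] at h
      have h' : ((2 * (t * t) : ℕ) : ℂ) = ((t + 1 : ℕ) : ℂ) := by push_cast; linear_combination h
      have h'' := Nat.cast_injective h'
      have ht2 : 2 ≤ t := by omega
      have := Nat.mul_le_mul_right t ht2
      omega
    have hnorm : ∑ ψ : IrrCharacter G, (m ψ) ^ 2 =
        Nat.card (orbitRel.Quotient G (Fin 4 ↪ α)) + 3 := by
      apply Nat.cast_injective (R := ℂ)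
      have h := Cfsg.Agent.Char.classInner_sum_sum (fun ψ : IrrCharacter G => (m ψ : ℂ))
        (fun ψ : IrrCharacter G => (m ψ : ℂ))
      rw [← hdec, classInner, Finset.sum_congr rfl fun g _ => (show f2 g * conj (f2 g) =
        heart g ^ 4 by rw [hf2]; simp only [map_pow, heart_conj]; ring), hm4,
        mul_left_comm, inv_mul_cancel₀ hG, mul_one] at h
      push_cast
      rw [h]
      exact Finset.sum_congr rfl fun ψ _ => by rw [Complex.conj_natCast, sq]
    have hle : ∑ ψ ∈ insert ξ (X ∪ Y), (m ψ) ^ 2 ≤ ∑ ψ : IrrCharacter G, (m ψ) ^ 2 :=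
      Finset.sum_le_sum_of_subset (Finset.subset_univ _)
    rw [Finset.sum_insert hξ, hnorm,
      Finset.sum_congr rfl (g := fun _ => 1) (fun ψ hψ => by rw [hm1' ψ hψ, one_pow]),
      Finset.sum_const, smul_eq_mul, mul_one, Finset.card_union_of_disjoint H.disj, H.card_X,
      hYc] at hle
    have : 1 ≤ m ξ ^ 2 := Nat.one_le_pow _ _ (Nat.pos_of_ne_zero hξ0)
    omega

end Cfsg.Agent.Block.PrimeTwoP
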