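import Mathlib
import Cfsg.Agent.S0676
import Cfsg.Agent.Lib.Block.PrimeTwoP.Chars

/-!
Permutation groups of prime degree `p` with Sylow normalizer of order `2 p`: triply transitive with
trivial three point stabilizers, or with normal Sylow subgroup.
-/

set_option autoImplicit false

namespace Cfsg.Agent.Block.PrimeTwoP

open Cfsg Cfsg.Agent.Block Cfsg.Agent.Char MulAction

universe u v

/-- A group of odd order moves a moved point to at least two further points. -/
theorem three_le_moved {K : Type u} [Group K] {Ω : Type v} [MulAction K Ω] {h : K}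
    (ho : Odd (orderOf h)) {z : Ω} (hz : h • z ≠ z) :
    z ≠ h • z ∧ h • z ≠ (h * h) • z ∧ z ≠ (h * h) • z := by
  refine ⟨hz.symm, fun e => ?_, fun e => ?_⟩
  · rw [mul_smul] at e
    exact hz (smul_left_cancel h e).symm
  · obtain ⟨k, hk⟩ := ho
    have h2 : h * h ∈ stabilizer K z := e.symm
    have h4 := pow_mem h2 (k + 1)
    rw [← sq, ← pow_mul, show 2 * (k + 1) = orderOf h + 1 by omega, pow_succ, pow_orderOf_eq_one,
      one_mul] at h4
    exact hz h4

variable {α : Type u} [Fintype α] [DecidableEq α] {p : ℕ} [Fact p.Prime]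
  {G : Subgroup (Equiv.Perm α)}

/-- The points fixed by a subgroup. -/
abbrev fixSet (K : Subgroup G) : Set α := {z | ∀ h ∈ K, h • z = z}

theorem mem_stab {T : Fin 3 ↪ α} {g : G} : g ∈ stabilizer G T ↔ ∀ i, g • T i = T i :=
  ⟨fun h i => congrArg (fun s : Fin 3 ↪ α => s i) h, fun h => Function.Embedding.ext h⟩

/-- The stabilizers of triples are conjugate and so are their fixed points. -/
theorem conj_data (h3 : IsMultiplyPretransitive G α 3) (T T' : Fin 3 ↪ α) :
    Nat.card (stabilizer G T) = Nat.card (stabilizer G T') ∧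
      (fixSet (stabilizer G T)).ncard = (fixSet (stabilizer G T')).ncard := by
  haveI := h3
  obtain ⟨g, rfl⟩ := exists_smul_eq G T T'
  have hiff : ∀ h : G, h ∈ stabilizer G T ↔ g * h * g⁻¹ ∈ stabilizer G (g • T) := fun h => by
    simp only [mem_stab]
    refine forall_congr' fun i => ?_
    show h • T i = T i ↔ (g * h * g⁻¹) • g • T i = g • T i
    rw [mul_smul, mul_smul, inv_smul_smul, smul_left_cancel_iff]
  constructor
  · exact Nat.card_congr (Equiv.subtypeEquiv (MulAut.conj g).toEquiv hiff)
  · refine (Set.ncard_congr (fun z _ => g • z) (fun z hz h hh => ?_)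
      (fun _ _ _ _ e => smul_left_cancel g e) fun w hw => ⟨g⁻¹ • w, fun h hh => ?_, smul_inv_smul g w⟩)
    · have h1 : g⁻¹ * h * g ∈ stabilizer G T := by
        rw [hiff, show g * (g⁻¹ * h * g) * g⁻¹ = h by group]
        exact hh
      have h2 := hz _ h1
      rw [mul_smul, mul_smul, inv_smul_eq_iff] at h2
      exact h2
    · have h2 := hw _ ((hiff h).1 hh)
      rw [mul_smul, mul_smul, smul_eq_iff_eq_inv_smul] at h2
      exact h2

/-- A triple. -/
def triple (a b c : α) (hab : a ≠ b) (hbc : b ≠ c) (hac : a ≠ c) : Fin 3 ↪ α :=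
  ⟨![a, b, c], by intro i j h; fin_cases i <;> fin_cases j <;> simp_all⟩

/-- Stabilizers of triples among the fixed points of such a stabilizer coincide. -/
theorem stab_eq (h3 : IsMultiplyPretransitive G α 3) (T T' : Fin 3 ↪ α)
    (h : ∀ i, T' i ∈ fixSet (stabilizer G T)) : stabilizer G T = stabilizer G T' :=
  Subgroup.eq_of_le_of_card_ge (fun _ hg => mem_stab.2 fun i => h i _ hg) (conj_data h3 T' T).1.le

/-- Many fixed points of a triple stabilizer force it to be trivial. -/
theorem stab_bot (hp5 : 5 ≤ p) (hα : Fintype.card α = p) (h3 : IsMultiplyPretransitive G α 3)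
    (hinv : ∀ z : G, orderOf z = 2 → Nat.card (fixedBy α z) < 3)
    (hr : (p - 1) / 2 ≤ Nat.card (orbitRel.Quotient G (Fin 4 ↪ α))) (T : Fin 3 ↪ α) :
    stabilizer G T = ⊥ := by
  classical
  haveI := h3
  obtain ⟨t, ht⟩ : ∃ t, p = 2 * t + 1 := (Fact.out : p.Prime).odd_of_ne_two (by omega)
  have hodd : ∀ h ∈ stabilizer G T, Odd (orderOf h) := by
    intro h hh
    by_contra hc
    rw [Nat.not_odd_iff_even, even_iff_two_dvd] at hc
    have h2 : orderOf (h ^ (orderOf h / 2)) = 2 := orderOf_pow_orderOf_div (orderOf_pos h).ne' hc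
    have h1 : h ^ (orderOf h / 2) ∈ stabilizer G T := pow_mem hh _
    have h4 := hinv _ h2
    have h5 := Nat.card_le_card_of_injective
      (fun i : Fin 3 => (⟨T i, mem_stab.1 h1 i⟩ : fixedBy α (h ^ (orderOf h / 2))))
      fun i j e => T.injective (congrArg Subtype.val e)
    rw [Nat.card_fin] at h5
    exact absurd h4 (Nat.not_lt.2 h5)
  set F : Finset α := Finset.univ.filter fun z => ∀ h ∈ stabilizer G T, h • z = z with hFdef
  set R : Finset α := Finset.univ.map T with hR
  have hRc : R.card = 3 := by rw [hR, Finset.card_map, Finset.card_univ, Fintype.card_fin]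
  have hRF : R ⊆ F := fun z hz => by
    obtain ⟨i, -, rfl⟩ := Finset.mem_map.1 hz
    exact Finset.mem_filter.2 ⟨Finset.mem_univ _, fun h hh => mem_stab.1 hh i⟩
  -- the orbits on quadruples
  let Z := {z : α // z ∉ R}
  have hinj : ∀ z : Z, Function.Injective (Fin.snoc (α := fun _ => α) T z.1) := fun z => by
    rw [Fin.snoc_injective_iff]
    exact ⟨T.injective, fun ⟨i, hi⟩ =>
      z.2 (Finset.mem_map.2 ⟨i, Finset.mem_univ _, hi⟩)⟩
  let ψ : Z → orbitRel.Quotient G (Fin 4 ↪ α) := fun z => Quotient.mk'' ⟨_, hinj z⟩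
  have hsurj : Function.Surjective ψ := by
    intro q
    induction q using Quotient.inductionOn' with | _ e => ?_
    obtain ⟨g, hg⟩ := exists_smul_eq G (Fin.castSuccEmb.trans e) T
    have hg' : ∀ i : Fin 3, g • e i.castSucc = T i := fun i =>
      congrArg (fun s : Fin 3 ↪ α => s i) hg
    have hz : g • e (Fin.last 3) ∉ R := fun hm => by
      obtain ⟨i, -, hi⟩ := Finset.mem_map.1 hm
      rw [← hg' i] at hi
      exact Fin.castSucc_ne_last i (e.injective (smul_left_cancel g hi))
    refine ⟨⟨_, hz⟩, Quotient.sound' ⟨g, Function.Embedding.ext fun i => ?_⟩⟩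
    refine Fin.lastCases ?_ (fun j => ?_) i
    · show g • e (Fin.last 3) = Fin.snoc (α := fun _ => α) T (g • e (Fin.last 3)) (Fin.last 3)
      rw [Fin.snoc_last]
    · show g • e j.castSucc = Fin.snoc (α := fun _ => α) T (g • e (Fin.last 3)) j.castSucc
      rw [Fin.snoc_castSucc, hg' j]
  have hcov : ∀ q, 3 ≤ (Finset.univ.filter fun z : Z => ψ z = q).card +
      2 * ((Finset.univ.filter fun z : Z => z.1 ∈ F).filter fun z => ψ z = q).card := by
    intro q
    by_cases hex : ∃ z : Z, ψ z = q ∧ z.1 ∈ F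
    · obtain ⟨z, hzq, hzF⟩ := hex
      have h1 : 1 ≤ (Finset.univ.filter fun z : Z => ψ z = q).card :=
        Finset.card_pos.2 ⟨z, Finset.mem_filter.2 ⟨Finset.mem_univ _, hzq⟩⟩
      have h2 : 1 ≤ ((Finset.univ.filter fun z : Z => z.1 ∈ F).filter fun z => ψ z = q).card :=
        Finset.card_pos.2 ⟨z, Finset.mem_filter.2
          ⟨Finset.mem_filter.2 ⟨Finset.mem_univ _, hzF⟩, hzq⟩⟩
      omega
    · push Not at hex
      obtain ⟨z, hzq⟩ := hsurj q
      obtain ⟨h, hh, hhz⟩ : ∃ h ∈ stabilizer G T, h • z.1 ≠ z.1 := by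
        by_contra hc
        push Not at hc
        exact hex z hzq (Finset.mem_filter.2 ⟨Finset.mem_univ _, hc⟩)
      have hmem : ∀ k ∈ stabilizer G T, k • z.1 ∉ R := fun k hk hm => by
        obtain ⟨i, -, hi⟩ := Finset.mem_map.1 hm
        rw [← mem_stab.1 hk i] at hi
        exact z.2 (Finset.mem_map.2 ⟨i, Finset.mem_univ _, smul_left_cancel k hi⟩)
      have hψ : ∀ (k : G) (hk : k ∈ stabilizer G T), ψ ⟨k • z.1, hmem k hk⟩ = q := fun k hk => by
        rw [← hzq]
        refine Quotient.sound' ⟨k, Function.Embedding.ext fun i => ?_⟩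
        refine Fin.lastCases ?_ (fun j => ?_) i
        · show k • Fin.snoc (α := fun _ => α) T z.1 (Fin.last 3) = Fin.snoc (α := fun _ => α) T (k • z.1) (Fin.last 3)
          rw [Fin.snoc_last, Fin.snoc_last]
        · show k • Fin.snoc (α := fun _ => α) T z.1 j.castSucc = Fin.snoc (α := fun _ => α) T (k • z.1) j.castSucc
          rw [Fin.snoc_castSucc, Fin.snoc_castSucc]
          exact mem_stab.1 hk j
      obtain ⟨d1, d2, d3⟩ := three_le_moved (hodd h hh) hhz
      have hsub : ({z, ⟨h • z.1, hmem h hh⟩, ⟨(h * h) • z.1, hmem _ (mul_mem hh hh)⟩} : Finset Z) ⊆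
          Finset.univ.filter fun z : Z => ψ z = q := by
        intro w hw
        simp only [Finset.mem_insert, Finset.mem_singleton] at hw
        refine Finset.mem_filter.2 ⟨Finset.mem_univ _, ?_⟩
        rcases hw with rfl | rfl | rfl
        · exact hzq
        · exact hψ _ hh
        · exact hψ _ (mul_mem hh hh)
      have := Finset.card_le_card hsub
      rw [Finset.card_eq_three.2 ⟨_, _, _, fun e => d1 (congrArg Subtype.val e),
        fun e => d3 (congrArg Subtype.val e), fun e => d2 (congrArg Subtype.val e), rfl⟩] at this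
      omega
  haveI : Fintype (orbitRel.Quotient G (Fin 4 ↪ α)) := Fintype.ofFinite _
  have hsum := Finset.sum_le_sum fun q (_ : q ∈ Finset.univ) => hcov q
  rw [Finset.sum_const, Finset.card_univ, smul_eq_mul, Finset.sum_add_distrib, ← Finset.mul_sum,
    ← Finset.card_eq_sum_card_fiberwise (fun z _ => Finset.mem_univ (ψ z)),
    ← Finset.card_eq_sum_card_fiberwise (fun z _ => Finset.mem_univ (ψ z))] at hsum
  have hZ : (Finset.univ : Finset Z).card = p - 3 := by
    rw [Finset.card_univ, Fintype.card_subtype_compl, Fintype.card_coe, hRc, hα]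
  have hZF : (Finset.univ.filter fun z : Z => z.1 ∈ F).card = F.card - 3 := by
    rw [← hRc, ← Finset.card_sdiff_of_subset hRF]
    refine Finset.card_bij (fun z _ => z.1) (fun z hz => ?_) (fun _ _ _ _ e => Subtype.ext e)
      fun w hw => ?_
    · exact Finset.mem_sdiff.2 ⟨(Finset.mem_filter.1 hz).2, z.2⟩
    · rw [Finset.mem_sdiff] at hw
      exact ⟨⟨w, hw.2⟩, Finset.mem_filter.2 ⟨Finset.mem_univ _, hw.1⟩, rfl⟩
  rw [hZ, hZF] at hsum
  rw [Nat.card_eq_fintype_card] at hr
  have hF3 := Finset.card_le_card hRF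
  have hf : t + 8 ≤ 2 * F.card := by omega
  by_contra hE
  have hfT : (fixSet (stabilizer G T)).ncard = F.card := by
    rw [← Set.ncard_coe_finset]
    congr 1
    ext z
    simp [hFdef, fixSet]
  obtain ⟨δ, hδ⟩ : ∃ δ, δ ∉ F := by
    by_contra hc
    push Not at hc
    refine hE ((Subgroup.eq_bot_iff_forall _).2 fun g hg => Subtype.ext (Equiv.ext fun z => ?_))
    exact (Finset.mem_filter.1 (hc z)).2 g hg
  set a := T 0 with ha
  have haF : a ∈ F := hRF (Finset.mem_map.2 ⟨0, Finset.mem_univ _, rfl⟩)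
  have haδ : a ≠ δ := fun e => hδ (e ▸ haF)
  let S : α → Finset α := fun y => if hy : y ∈ F.erase a then
      ((Finset.univ.filter fun w : α => ∀ h ∈ stabilizer G (triple a y δ (Finset.ne_of_mem_erase hy).symm
        (fun e => hδ (e ▸ Finset.mem_of_mem_erase hy)) haδ), h • w = w).erase a).erase δ
    else ∅
  have hScard : ∀ y ∈ F.erase a, F.card - 2 ≤ (S y).card := by
    intro y hy
    simp only [S, dif_pos hy]
    set T' := triple a y δ (Finset.ne_of_mem_erase hy).symm
      (fun e => hδ (e ▸ Finset.mem_of_mem_erase hy)) haδ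
    have h1 : (Finset.univ.filter fun w : α => ∀ h ∈ stabilizer G T', h • w = w).card = F.card := by
      rw [← hfT, ← (conj_data h3 T' T).2, ← Set.ncard_coe_finset]
      congr 1
      ext w
      simp [fixSet]
    have h2 := Finset.pred_card_le_card_erase (s := Finset.univ.filter fun w : α =>
      ∀ h ∈ stabilizer G T', h • w = w) (a := a)
    have h4 := Finset.pred_card_le_card_erase (s := (Finset.univ.filter fun w : α =>
      ∀ h ∈ stabilizer G T', h • w = w).erase a) (a := δ)
    omega
  have hdisj : ∀ y ∈ F.erase a, ∀ y' ∈ F.erase a, y ≠ y' → Disjoint (S y) (S y') := by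
    intro y hy y' hy' hne
    rw [Finset.disjoint_left]
    intro w hw hw'
    simp only [S, dif_pos hy, dif_pos hy'] at hw hw'
    simp only [Finset.mem_erase, Finset.mem_filter, Finset.mem_univ, true_and] at hw hw'
    set T1 := triple a y δ (Finset.ne_of_mem_erase hy).symm
      (fun e => hδ (e ▸ Finset.mem_of_mem_erase hy)) haδ with hT1
    set T2 := triple a y' δ (Finset.ne_of_mem_erase hy').symm
      (fun e => hδ (e ▸ Finset.mem_of_mem_erase hy')) haδ with hT2
    let T3 := triple a w δ hw.2.1.symm hw.1 haδ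
    have e1 : stabilizer G T1 = stabilizer G T3 := stab_eq h3 T1 T3 fun i h hh => by
      fin_cases i
      · exact mem_stab.1 hh 0
      · exact hw.2.2 h hh
      · exact mem_stab.1 hh 2
    have e2 : stabilizer G T2 = stabilizer G T3 := stab_eq h3 T2 T3 fun i h hh => by
      fin_cases i
      · exact mem_stab.1 hh 0
      · exact hw'.2.2 h hh
      · exact mem_stab.1 hh 2
    let T4 := triple a y y' (Finset.ne_of_mem_erase hy).symm hne (Finset.ne_of_mem_erase hy').symm
    have e4 : stabilizer G T1 = stabilizer G T4 := stab_eq h3 T1 T4 fun i h hh => by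
      fin_cases i
      · exact mem_stab.1 hh 0
      · exact mem_stab.1 hh 1
      · exact mem_stab.1 (e2.symm ▸ e1 ▸ hh : h ∈ stabilizer G T2) 1
    have e5 : stabilizer G T = stabilizer G T4 := stab_eq h3 T T4 fun i h hh => by
      fin_cases i
      · exact mem_stab.1 hh 0
      · exact (Finset.mem_filter.1 (Finset.mem_of_mem_erase hy)).2 h hh
      · exact (Finset.mem_filter.1 (Finset.mem_of_mem_erase hy')).2 h hh
    exact hδ (Finset.mem_filter.2 ⟨Finset.mem_univ _, fun h hh =>
      mem_stab.1 (e4.symm ▸ e5 ▸ hh : h ∈ stabilizer G T1) 2⟩)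
  have hU : (F.erase a).biUnion S ⊆ (Finset.univ.erase a).erase δ := by
    intro w hw
    obtain ⟨y, hy, hw⟩ := Finset.mem_biUnion.1 hw
    simp only [S, dif_pos hy] at hw
    simp only [Finset.mem_erase] at hw
    simp [hw.1, hw.2.1]
  have h5 := Finset.card_le_card hU
  rw [Finset.card_biUnion hdisj, Finset.card_erase_of_mem (by simp [haδ.symm]),
    Finset.card_erase_of_mem (Finset.mem_univ _), Finset.card_univ, hα] at h5
  have h6 := (Finset.card_nsmul_le_sum (F.erase a) (fun y => (S y).card) (F.card - 2) hScard).trans h5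
  rw [Finset.card_erase_of_mem haF, smul_eq_mul] at h6
  obtain ⟨k, hk⟩ : ∃ k, F.card = k + 2 := ⟨F.card - 2, by omega⟩
  rw [hk, show k + 2 - 1 = k + 1 by omega, Nat.add_sub_cancel] at h6
  have ht2 : 2 ≤ t := by omega
  have h7 : (t + 4) * (t + 4) ≤ (2 * k) * (2 * k) := Nat.mul_le_mul (by omega) (by omega)
  have h8 : (2 * k) * (2 * k) = 4 * (k * k) := by ring
  have h9 : (t + 4) * (t + 4) = t * t + 8 * t + 16 := by ring
  have h10 : (k + 1) * k = k * k + k := by ring
  omega

theorem main (hp : 2 < p) (hα : Fintype.card α = p) (P : Sylow p G)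
    (hN : Nat.card (Subgroup.normalizer ((P : Subgroup G) : Set G)) = 2 * p) :
    (P : Subgroup G).Normal ∨ (IsMultiplyPretransitive G α 3 ∧
      ∀ g : G, 3 ≤ Nat.card (fixedBy α g) → g = 1) := by
  classical
  by_cases hn : (P : Subgroup G).Normal
  · exact Or.inl hn
  refine Or.inr ?_
  have hdvd : p ∣ Nat.card G := by
    by_contra hd
    have : (P : Subgroup G) = ⊥ := by
      obtain ⟨i, hi⟩ := IsPGroup.iff_card.1 P.isPGroup'
      rcases i with _ | i
      · exact Subgroup.card_eq_one.1 (by rw [hi, pow_zero])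
      · exact absurd ((dvd_pow_self p (Nat.succ_ne_zero i)).trans
          (hi ▸ Subgroup.card_subgroup_dvd_card _)) hd
    exact hn (this ▸ inferInstance)
  haveI : IsPretransitive G α := by
    haveI := Block.primeDeg_pretransitive_of_dvd hα G ⊤ (by rwa [Subgroup.card_top])
    exact ⟨fun a b => by
      obtain ⟨g, hg⟩ := exists_smul_eq (⊤ : Subgroup G) a b
      exact ⟨g, hg⟩⟩
  haveI := Fintype.ofFinite G
  have hns : ¬ Group.IsSolvable G := fun h => hn (normal_of_solvable hα G P)
  have hp5 : 5 ≤ p := by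
    by_contra h
    refine hns (Block.isSolvable_of_card_le_three hα ?_ G)
    have h4 : p ≠ 4 := fun e => by
      have h2 := (Fact.out : p.Prime)
      rw [e] at h2
      norm_num at h2
    omega
  have h3 := Cfsg.Agent.S0676.result hα G hns P (by rw [hN]; exact even_two_mul p)
  obtain ⟨x, hx, hxP⟩ := exists_hyp hα G P
  have he : SCP.e x = 2 := by
    refine Nat.eq_of_mul_eq_mul_left (show 0 < p by omega) ?_
    rw [← SCP.card_N hx, mul_comm p 2, ← hN]
    show Nat.card (Subgroup.normalizer ((SCP.P x : Subgroup G) : Set G)) = _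
    rw [hxP]
  obtain ⟨hinv, hr⟩ := main_chars hp5 hα h3 hx he
  refine ⟨h3, fun g hg => ?_⟩
  obtain ⟨T'⟩ := Function.Embedding.nonempty_of_card_le (α := Fin 3) (β := fixedBy α g)
    (by rwa [Fintype.card_fin, ← Nat.card_eq_fintype_card])
  have h := stab_bot hp5 hα h3 hinv hr (T'.trans (Function.Embedding.subtype _))
  have hm : g ∈ stabilizer G (T'.trans (Function.Embedding.subtype _)) :=
    mem_stab.2 fun i => (T' i).2
  rw [h] at hm
  exact Subgroup.mem_bot.1 hm

end Cfsg.Agent.Block.PrimeTwoP
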